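import Mathlib

/-!
# The theorem of Sylvester and Schur

For `1 ≤ k` and `2 k ≤ n` some prime greater than `k` divides `n.choose k` (Erdős' argument).
-/

set_option autoImplicit false

namespace Cfsg.Agent.NT.SylvesterSchur

open Nat

/-- Every prime divisor of `n.choose k` is at most `k`. -/
def Smooth (n k : ℕ) : Prop := ∀ p, p.Prime → p ∣ n.choose k → p ≤ k

theorem two_mul_count_le : ∀ k, 8 ≤ k → 2 * primeCounting k ≤ k := by
  intro k hk
  induction k using Nat.strong_induction_on with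
  | _ k ih =>
    rcases Nat.lt_or_ge k 10 with h | h
    · interval_cases k <;> decide +kernel
    · obtain ⟨j, rfl⟩ : ∃ j, k = j + 2 := ⟨k - 2, by omega⟩
      have := ih j (by omega) (by omega)
      have h2 : primeCounting (j + 2) ≤ primeCounting j + 1 := by
        rw [primeCounting, primeCounting, primeCounting', show j + 2 + 1 = (j + 1) + 1 + 1 by rfl,
          Nat.count_succ, Nat.count_succ]
        by_cases ha : Nat.Prime (j + 1)
        · rw [if_pos ha, if_neg]
          intro hb
          rcases ha.eq_two_or_odd with e | e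
          · omega
          · rcases hb.eq_two_or_odd with e' | e' <;> omega
        · rw [if_neg ha]
          split_ifs <;> omega
      omega

theorem three_mul_count_le : ∀ k, 33 ≤ k → 3 * primeCounting k ≤ k := by
  intro k hk
  induction k using Nat.strong_induction_on with
  | _ k ih =>
    rcases Nat.lt_or_ge k 39 with h | h
    · interval_cases k <;> decide +kernel
    · obtain ⟨j, rfl⟩ : ∃ j, k = j + 6 := ⟨k - 6, by omega⟩
      have := ih j (by omega) (by omega)
      have hp : ∀ a, 5 ≤ a → Nat.Prime a → a % 6 = 1 ∨ a % 6 = 5 := fun a ha hpa => by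
        have h2 : ¬ 2 ∣ a := fun hd => by
          rcases hpa.eq_one_or_self_of_dvd 2 hd with e | e <;> omega
        have h3 : ¬ 3 ∣ a := fun hd => by
          rcases hpa.eq_one_or_self_of_dvd 3 hd with e | e <;> omega
        omega
      have h2 : primeCounting (j + 6) ≤ primeCounting j + 2 := by
        rw [primeCounting, primeCounting, primeCounting',
          show j + 6 + 1 = (j + 1) + 1 + 1 + 1 + 1 + 1 + 1 by rfl]
        simp only [Nat.count_succ]
        have hb : ∀ a, 5 ≤ a → (if a.Prime then 1 else 0) ≤ (if a % 6 = 1 ∨ a % 6 = 5 then 1 else 0) := by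
          intro a ha
          by_cases hq : a.Prime
          · rw [if_pos hq, if_pos (hp a ha hq)]
          · rw [if_neg hq]; exact Nat.zero_le _
        have h1 := hb (j + 1) (by omega)
        have h2 := hb (j + 1 + 1) (by omega)
        have h3 := hb (j + 1 + 1 + 1) (by omega)
        have h4 := hb (j + 1 + 1 + 1 + 1) (by omega)
        have h5 := hb (j + 1 + 1 + 1 + 1 + 1) (by omega)
        have h6 := hb (j + 1 + 1 + 1 + 1 + 1 + 1) (by omega)
        have e : (if (j + 1) % 6 = 1 ∨ (j + 1) % 6 = 5 then 1 else 0)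
            + (if (j + 1 + 1) % 6 = 1 ∨ (j + 1 + 1) % 6 = 5 then 1 else 0)
            + (if (j + 1 + 1 + 1) % 6 = 1 ∨ (j + 1 + 1 + 1) % 6 = 5 then 1 else 0)
            + (if (j + 1 + 1 + 1 + 1) % 6 = 1 ∨ (j + 1 + 1 + 1 + 1) % 6 = 5 then 1 else 0)
            + (if (j + 1 + 1 + 1 + 1 + 1) % 6 = 1 ∨ (j + 1 + 1 + 1 + 1 + 1) % 6 = 5 then 1 else 0)
            + (if (j + 1 + 1 + 1 + 1 + 1 + 1) % 6 = 1 ∨ (j + 1 + 1 + 1 + 1 + 1 + 1) % 6 = 5 then 1
              else 0) = 2 := by
          rw [show (j + 1 + 1) % 6 = ((j + 1) % 6 + 1) % 6 by omega,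
            show (j + 1 + 1 + 1) % 6 = ((j + 1) % 6 + 2) % 6 by omega,
            show (j + 1 + 1 + 1 + 1) % 6 = ((j + 1) % 6 + 3) % 6 by omega,
            show (j + 1 + 1 + 1 + 1 + 1) % 6 = ((j + 1) % 6 + 4) % 6 by omega,
            show (j + 1 + 1 + 1 + 1 + 1 + 1) % 6 = ((j + 1) % 6 + 5) % 6 by omega]
          have : (j + 1) % 6 < 6 := Nat.mod_lt _ (by norm_num)
          generalize (j + 1) % 6 = t at this ⊢
          interval_cases t <;> rfl
        simp only [Nat.add_assoc, Nat.reduceAdd] at h1 h2 h3 h4 h5 h6 e ⊢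
        omega
      omega

theorem card_primes_le (m : ℕ) :
    ((Finset.range (m + 1)).filter Nat.Prime).card = primeCounting m := by
  rw [primeCounting, primeCounting', Nat.count_eq_card_filter_range]

/-- The primes above the square root contribute once, the others at most `n` each. -/
theorem choose_le {n k c : ℕ} (hkn : k ≤ n)
    (h : ∀ p, p.Prime → p ∣ n.choose k → p ≤ Nat.sqrt n ∨ p ≤ c) :
    n.choose k ≤ n ^ primeCounting (Nat.sqrt n) * 4 ^ c := by
  rcases Nat.eq_zero_or_pos n with rfl | hn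
  · obtain rfl : k = 0 := Nat.le_zero.1 hkn
    simp [Nat.one_le_pow]
  set C := n.choose k
  have hC : C ≠ 0 := (Nat.choose_pos hkn).ne'
  have hfac := Nat.prod_factorization_pow_eq_self hC
  rw [Finsupp.prod, Nat.support_factorization] at hfac
  rw [← hfac, ← Finset.prod_filter_mul_prod_filter_not C.primeFactors (· ≤ Nat.sqrt n)]
  apply Nat.mul_le_mul
  · refine (Finset.prod_le_prod' fun p _ => Nat.pow_factorization_choose_le hn).trans ?_
    rw [Finset.prod_const]
    refine Nat.pow_le_pow_right hn ?_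
    rw [← card_primes_le]
    refine Finset.card_le_card fun p hp => ?_
    obtain ⟨h1, h2⟩ := Finset.mem_filter.1 hp
    exact Finset.mem_filter.2 ⟨Finset.mem_range.2 (by omega), Nat.prime_of_mem_primeFactors h1⟩
  · refine le_trans ?_ (primorial_le_four_pow c)
    refine (Finset.prod_le_prod' (g := fun p => p) fun p hp => ?_).trans ?_
    · obtain ⟨h1, h2⟩ := Finset.mem_filter.1 hp
      refine (Nat.pow_le_pow_right (Nat.prime_of_mem_primeFactors h1).pos
        (Nat.factorization_choose_le_one (Nat.sqrt_lt'.1 (not_le.1 h2)))).trans (pow_one p).le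
    · refine Finset.prod_le_prod_of_subset_of_one_le' (fun p hp => ?_) fun p hp _ => ?_
      · obtain ⟨h1, h2⟩ := Finset.mem_filter.1 hp
        refine Finset.mem_filter.2 ⟨Finset.mem_range.2 ?_, Nat.prime_of_mem_primeFactors h1⟩
        rcases h p (Nat.prime_of_mem_primeFactors h1) (Nat.dvd_of_mem_primeFactors h1) with h3 | h3 <;>
          omega
      · exact (Finset.mem_filter.1 hp).2.one_lt.le

theorem choose_le_pow {n k : ℕ} (hn : 0 < n) (hkn : k ≤ n) (hs : Smooth n k) :
    n.choose k ≤ n ^ primeCounting k := by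
  set C := n.choose k
  have hC : C ≠ 0 := (Nat.choose_pos hkn).ne'
  have hfac := Nat.prod_factorization_pow_eq_self hC
  rw [Finsupp.prod, Nat.support_factorization] at hfac
  rw [← hfac]
  refine (Finset.prod_le_prod' fun p _ => Nat.pow_factorization_choose_le hn).trans ?_
  rw [Finset.prod_const]
  refine Nat.pow_le_pow_right hn ?_
  rw [← card_primes_le]
  refine Finset.card_le_card fun p hp => ?_
  have := hs p (Nat.prime_of_mem_primeFactors hp) (Nat.dvd_of_mem_primeFactors hp)
  exact Finset.mem_filter.2 ⟨Finset.mem_range.2 (by omega), Nat.prime_of_mem_primeFactors hp⟩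

theorem pow_le_pow_mul_choose {n k : ℕ} (hkn : k ≤ n) : n ^ k ≤ k ^ k * n.choose k := by
  have h : ∀ j ≤ k, n ^ j * k.descFactorial j ≤ k ^ j * n.descFactorial j := by
    intro j hj
    induction j with
    | zero => simp
    | succ j ih =>
      have := ih (by omega)
      rw [Nat.descFactorial_succ, Nat.descFactorial_succ]
      calc n ^ (j + 1) * ((k - j) * k.descFactorial j)
          = (n * (k - j)) * (n ^ j * k.descFactorial j) := by ring
        _ ≤ (k * (n - j)) * (k ^ j * n.descFactorial j) := by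
            refine Nat.mul_le_mul ?_ this
            rw [Nat.mul_sub, Nat.mul_sub, Nat.mul_comm n k]
            exact Nat.sub_le_sub_left (Nat.mul_le_mul_right j hkn) _
        _ = k ^ (j + 1) * ((n - j) * n.descFactorial j) := by ring
  have := h k le_rfl
  rw [Nat.descFactorial_self, Nat.descFactorial_eq_factorial_mul_choose,
    show k ^ k * (k.factorial * n.choose k) = (k ^ k * n.choose k) * k.factorial by ring] at this
  exact Nat.le_of_mul_le_mul_right this k.factorial_pos

theorem pow_le_self_pow {n k : ℕ} (hn : 0 < n) (hkn : k ≤ n) (hs : Smooth n k) :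
    n ^ k ≤ k ^ k * n ^ primeCounting k :=
  (pow_le_pow_mul_choose hkn).trans (Nat.mul_le_mul_left _ (choose_le_pow hn hkn hs))

theorem choose_add_le (k : ℕ) : ∀ d ≤ k, (2 * k).choose k * 3 ^ d ≤ (2 * k + d).choose k * 2 ^ d := by
  intro d hd
  induction d with
  | zero => simp
  | succ d ih =>
    have h := ih (by omega)
    have h1 := Nat.choose_mul_succ_eq (2 * k + d) k
    have h2 : (2 * k + d).choose k * 3 ≤ (2 * k + (d + 1)).choose k * 2 := by
      rw [show 2 * k + (d + 1) = 2 * k + d + 1 by omega]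
      refine Nat.le_of_mul_le_mul_right (c := (2 * k + d + 1 - k)) ?_ (by omega)
      have h3 : 3 * (2 * k + d + 1 - k) ≤ 2 * (2 * k + d + 1) := by omega
      calc (2 * k + d).choose k * 3 * (2 * k + d + 1 - k)
          = (2 * k + d).choose k * (3 * (2 * k + d + 1 - k)) := by ring
        _ ≤ (2 * k + d).choose k * (2 * (2 * k + d + 1)) := Nat.mul_le_mul_left _ h3
        _ = 2 * ((2 * k + d).choose k * (2 * k + d + 1)) := by ring
        _ = (2 * k + d + 1).choose k * 2 * (2 * k + d + 1 - k) := by rw [h1]; ring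
    calc (2 * k).choose k * 3 ^ (d + 1) = (2 * k).choose k * 3 ^ d * 3 := by ring
      _ ≤ (2 * k + d).choose k * 2 ^ d * 3 := Nat.mul_le_mul_right 3 h
      _ = (2 * k + d).choose k * 3 * 2 ^ d := by ring
      _ ≤ (2 * k + (d + 1)).choose k * 2 * 2 ^ d := Nat.mul_le_mul_right _ h2
      _ = _ := by ring

theorem log_bound : ∀ j, 3 ≤ j → 2 * (j + 1) ≤ 2 ^ j := by
  intro j hj
  induction j, hj using Nat.le_induction with
  | base => norm_num
  | succ j _ ih => rw [pow_succ]; omega

theorem false_of_large_wide {n k : ℕ} (hk : 2048 ≤ k) (hn : 16 * k ≤ n) (hnk : n ^ 2 ≤ k ^ 3)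
    (hs : Smooth n k) : False := by
  set s := Nat.sqrt n with hsdef
  have hs33 : 33 ≤ s := Nat.le_sqrt.2 (by omega)
  have hπ := three_mul_count_le s hs33
  set L := Nat.log 2 n + 1 with hLdef
  have hL1 : n < 2 ^ L := Nat.lt_pow_succ_log_self (by norm_num) n
  have hL2 : 2 ^ Nat.log 2 n ≤ n := Nat.pow_log_le_self 2 (by omega)
  have hC : n.choose k ≤ n ^ primeCounting s * 4 ^ k :=
    choose_le (by omega) fun p hp hd => Or.inr (hs p hp hd)
  have h16 : 16 ^ k ≤ n.choose k := by
    refine Nat.le_of_mul_le_mul_left (c := k ^ k) ?_ (pow_pos (show 0 < k by omega) k)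
    refine le_trans ?_ (pow_le_pow_mul_choose (show k ≤ n by omega))
    rw [← mul_pow]
    exact Nat.pow_le_pow_left (by linarith) k
  have h2 : 2 ^ (4 * k) ≤ 2 ^ (L * primeCounting s + 2 * k) := by
    calc 2 ^ (4 * k) = 16 ^ k := by rw [pow_mul]; norm_num
      _ ≤ n ^ primeCounting s * 4 ^ k := h16.trans hC
      _ ≤ (2 ^ L) ^ primeCounting s * 4 ^ k :=
          Nat.mul_le_mul_right _ (Nat.pow_le_pow_left hL1.le _)
      _ = _ := by rw [← pow_mul, pow_add, pow_mul 2 2 k]; norm_num
  have h3 : 4 * k ≤ L * primeCounting s + 2 * k := (Nat.pow_le_pow_iff_right (by norm_num)).1 h2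
  have h6 : 6 * k ≤ L * s := by
    have := Nat.mul_le_mul_left L hπ
    have e : L * (3 * primeCounting s) = 3 * (L * primeCounting s) := by ring
    omega
  -- the fourth root of `k`
  set u := Nat.sqrt (Nat.sqrt k) with hudef
  have hu6 : 6 ≤ u := Nat.le_sqrt.2 (Nat.le_sqrt.2 (by omega))
  have hu4 : u ^ 4 ≤ k := by
    calc u ^ 4 = (u * u) * (u * u) := by ring
      _ ≤ Nat.sqrt k * Nat.sqrt k := Nat.mul_le_mul (Nat.sqrt_le _) (Nat.sqrt_le _)
      _ ≤ k := Nat.sqrt_le _
  have hku : k < (u + 1) ^ 4 := by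
    have h1 : Nat.sqrt k + 1 ≤ (u + 1) * (u + 1) := Nat.lt_succ_sqrt _
    calc k < (Nat.sqrt k + 1) * (Nat.sqrt k + 1) := Nat.lt_succ_sqrt _
      _ ≤ ((u + 1) * (u + 1)) * ((u + 1) * (u + 1)) := Nat.mul_le_mul h1 h1
      _ = (u + 1) ^ 4 := by ring
  set j := Nat.log 2 u + 1 with hjdef
  have hj1 : u < 2 ^ j := Nat.lt_pow_succ_log_self (by norm_num) u
  have hj2 : 2 * j ≤ u := by
    rcases Nat.lt_or_ge u 8 with h | h
    · have : Nat.log 2 u = 2 := Nat.log_eq_of_pow_le_of_lt_pow (by norm_num; omega) (by norm_num; omega)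
      omega
    · have h1 := log_bound (Nat.log 2 u) (Nat.le_log_of_pow_le (by norm_num) (by norm_num; omega))
      have h2 := Nat.pow_log_le_self 2 (show u ≠ 0 by omega)
      omega
  have hn12 : n ^ 2 < (2 ^ (6 * j)) ^ 2 := by
    calc n ^ 2 ≤ k ^ 3 := hnk
      _ < ((u + 1) ^ 4) ^ 3 := Nat.pow_lt_pow_left hku (by norm_num)
      _ ≤ ((2 ^ j) ^ 4) ^ 3 := Nat.pow_le_pow_left (Nat.pow_le_pow_left hj1 _) _
      _ = (2 ^ (6 * j)) ^ 2 := by ring
  have hLj : L ≤ 6 * j := by
    have h1 : n < 2 ^ (6 * j) := lt_of_pow_lt_pow_left₀ 2 (Nat.zero_le _) hn12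
    have := (Nat.pow_lt_pow_iff_right (by norm_num : 1 < 2)).1 (hL2.trans_lt h1)
    omega
  have hsu : s < (u + 1) ^ 3 := by
    refine lt_of_pow_lt_pow_left₀ 4 (Nat.zero_le _) ?_
    calc s ^ 4 = (s * s) ^ 2 := by ring
      _ ≤ n ^ 2 := Nat.pow_le_pow_left (Nat.sqrt_le _) 2
      _ ≤ k ^ 3 := hnk
      _ < ((u + 1) ^ 4) ^ 3 := Nat.pow_lt_pow_left hku (by norm_num)
      _ = ((u + 1) ^ 3) ^ 4 := by ring
  have hu3 : (u + 1) ^ 3 ≤ 2 * u ^ 3 := by
    have h1 := Nat.mul_le_mul_right (u * u) hu6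
    have h2 := Nat.mul_le_mul_right u hu6
    ring_nf at h1 h2 ⊢
    omega
  have : L * s < 6 * k := by
    calc L * s ≤ 6 * j * s := Nat.mul_le_mul_right s hLj
      _ < 6 * j * (u + 1) ^ 3 := (Nat.mul_lt_mul_left (by omega)).2 hsu
      _ ≤ 6 * j * (2 * u ^ 3) := Nat.mul_le_mul_left _ hu3
      _ = 6 * (2 * j * u ^ 3) := by ring
      _ ≤ 6 * (u * u ^ 3) := Nat.mul_le_mul_left 6 (Nat.mul_le_mul_right _ hj2)
      _ ≤ 6 * k := by rw [← _root_.pow_succ']; exact Nat.mul_le_mul_left 6 hu4
  omega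

theorem false_of_large_narrow {n k : ℕ} (hk : 2048 ≤ k) (h2k : 2 * k ≤ n) (hn : n < 16 * k)
    (hs : Smooth n k) : False := by
  set s := Nat.sqrt n with hsdef
  have hs33 : 33 ≤ s := Nat.le_sqrt.2 (by omega)
  have hπ := three_mul_count_le s hs33
  set L := Nat.log 2 n + 1 with hLdef
  have hL1 : n < 2 ^ L := Nat.lt_pow_succ_log_self (by norm_num) n
  have hL2 : 2 ^ Nat.log 2 n ≤ n := Nat.pow_log_le_self 2 (by omega)
  set d := min (n - 2 * k) k with hd
  set c := (2 * k + d) / 3 with hc
  have hp3 : ∀ p, p.Prime → p ∣ n.choose k → p ≤ s ∨ p ≤ c := by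
    intro p hp hdvd
    have hpk := hs p hp hdvd
    by_contra hcon
    push Not at hcon
    obtain ⟨h1, h2⟩ := hcon
    rcases Nat.lt_or_ge n (3 * k) with h3 | h3
    · have hp2 : p ≠ 2 := by omega
      have := Nat.factorization_choose_of_lt_three_mul hp2 hpk (show p ≤ n - k by omega) (by omega)
      exact absurd (hp.factorization_pos_of_dvd (Nat.choose_pos (by omega)).ne' hdvd) (by omega)
    · omega
  have hC : n.choose k ≤ n ^ primeCounting s * 4 ^ c := choose_le (by omega) hp3
  have hlow : 4 ^ k * 3 ^ d ≤ k * n.choose k * 2 ^ d := by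
    have h1 := (Nat.four_pow_lt_mul_centralBinom k (by omega)).le
    rw [Nat.centralBinom] at h1
    calc 4 ^ k * 3 ^ d ≤ k * (2 * k).choose k * 3 ^ d := Nat.mul_le_mul_right _ h1
      _ = k * ((2 * k).choose k * 3 ^ d) := by ring
      _ ≤ k * ((2 * k + d).choose k * 2 ^ d) := Nat.mul_le_mul_left k (choose_add_le k d (min_le_right _ _))
      _ ≤ k * (n.choose k * 2 ^ d) :=
          Nat.mul_le_mul_left k (Nat.mul_le_mul_right _ (Nat.choose_le_choose k (by omega)))
      _ = _ := by ring
  have hbits : 4 ^ k * 3 ^ d ≤ 2 ^ (L + L * primeCounting s + 2 * c + d) := by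
    refine hlow.trans ?_
    calc k * n.choose k * 2 ^ d ≤ 2 ^ L * ((2 ^ L) ^ primeCounting s * 4 ^ c) * 2 ^ d :=
          Nat.mul_le_mul_right _ (Nat.mul_le_mul (by omega)
            (hC.trans (Nat.mul_le_mul_right _ (Nat.pow_le_pow_left hL1.le _))))
      _ = _ := by
          rw [← pow_mul, pow_add, pow_add, pow_add, pow_mul 2 2 c]; norm_num; ring
  have h12 : 2 ^ (24 * k + 19 * d) ≤ 2 ^ (12 * (L + L * primeCounting s + 2 * c + d)) := by
    calc 2 ^ (24 * k + 19 * d) = (4 ^ k) ^ 12 * (2 ^ 19) ^ d := by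
          rw [pow_add, ← pow_mul 2 19 d, show (4 : ℕ) = 2 ^ 2 by norm_num, ← pow_mul, ← pow_mul]
          congr 2; ring
      _ ≤ (4 ^ k) ^ 12 * (3 ^ 12) ^ d := Nat.mul_le_mul_left _ (Nat.pow_le_pow_left (by norm_num) d)
      _ = (4 ^ k * 3 ^ d) ^ 12 := by rw [mul_pow, ← pow_mul 3 12 d, ← pow_mul 3 d 12, mul_comm 12 d]
      _ ≤ (2 ^ (L + L * primeCounting s + 2 * c + d)) ^ 12 := Nat.pow_le_pow_left hbits _
      _ = _ := by rw [← pow_mul, mul_comm]
  have h24 := (Nat.pow_le_pow_iff_right (by norm_num : 1 < 2)).1 h12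
  have hdk : d ≤ k := min_le_right _ _
  have h7 : 7 * k ≤ 4 * (L * (s + 3)) := by
    have e1 : L * (3 * primeCounting s) = 3 * (L * primeCounting s) := by ring
    have e2 := Nat.mul_le_mul_left L hπ
    have e3 : L * (s + 3) = L * s + 3 * L := by ring
    omega
  have hss : s * s ≤ n := Nat.sqrt_le _
  have hsn : n < (s + 1) * (s + 1) := Nat.lt_succ_sqrt _
  rcases Nat.lt_or_ge s 170 with hsm | hsm
  · have hn15 : n < 2 ^ 15 := by
      have := Nat.mul_le_mul (show s + 1 ≤ 170 by omega) (show s + 1 ≤ 170 by omega)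
      omega
    have : Nat.log 2 n < 15 := (Nat.pow_lt_pow_iff_right (by norm_num : 1 < 2)).1 (hL2.trans_lt hn15)
    have := Nat.mul_le_mul (show L ≤ 15 by omega) (show s + 3 ≤ 172 by omega)
    omega
  · set j := Nat.log 2 (s + 1) + 1 with hjdef
    have hj1 : s + 1 < 2 ^ j := Nat.lt_pow_succ_log_self (by norm_num) _
    have hj2 : 2 ^ Nat.log 2 (s + 1) ≤ s + 1 := Nat.pow_log_le_self 2 (by omega)
    have key : ∀ i, 8 ≤ i → 19 * (i + 1) < 2 ^ i := by
      intro i hi
      induction i, hi using Nat.le_induction with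
      | base => norm_num
      | succ i _ ih => rw [pow_succ]; omega
    have h19 : 19 * j ≤ s := by
      rcases Nat.lt_or_ge (Nat.log 2 (s + 1)) 8 with h | h
      · omega
      · have := key _ h; omega
    have hLj : L ≤ 2 * j := by
      have h1 : n < 2 ^ (2 * j) := by
        rw [two_mul, pow_add]
        exact hsn.trans_le (Nat.mul_le_mul hj1.le hj1.le)
      have := (Nat.pow_lt_pow_iff_right (by norm_num : 1 < 2)).1 (hL2.trans_lt h1)
      omega
    have e1 := Nat.mul_le_mul_right (s + 3) hLj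
    have e2 := Nat.mul_le_mul h19 (show 50 * (s + 3) ≤ 51 * s by omega)
    have e3 : 19 * j * (50 * (s + 3)) = 950 * (j * (s + 3)) := by ring
    have e4 : s * (51 * s) = 51 * (s * s) := by ring
    have e5 : 2 * j * (s + 3) = 2 * (j * (s + 3)) := by ring
    omega

/-- Primes with gaps small enough for the middle range. -/
def chain : List ℕ := [71, 107, 139, 173, 199, 233, 269, 307, 349, 397, 449, 503, 563, 631, 701, 773,
  857, 947, 1039, 1129, 1237, 1327, 1447, 1571, 1699, 1831, 1979, 2131, 2293, 2459, 2633, 2819, 3011,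
  3217, 3433, 3659, 3889, 4133, 4373, 4639, 4909, 5197, 5483, 5791, 6113, 6427, 6763, 7109, 7477,
  7853, 8243, 8647, 9067, 9497, 9941, 10399, 10867, 11353, 11839, 12347, 12853, 13399, 13963, 14537,
  15131, 15739, 16363, 16993, 17627, 18301, 18979, 19687, 20411, 21157, 21911, 22691, 23473, 24281,
  25117, 25969, 26839, 27733, 28649, 29581, 30529, 31489, 32479, 33493, 34519, 35573, 36653, 37747,
  38867, 40013, 41179, 42359, 43573, 44809, 46061, 47339, 48647, 49957, 51307, 52673, 54059, 55487,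
  56941, 58417, 59921, 61441, 62989, 64567, 66173, 67807, 69467, 71153, 72869, 74611, 76379, 78179,
  79999, 81853, 83737, 85643, 87583, 89533, 91529, 93559]

theorem chain_prime : ∀ p ∈ chain, p.Prime := by
  simp only [chain, List.forall_mem_cons, List.not_mem_nil, false_imp_iff, implies_true, and_true]
  repeat' apply And.intro
  all_goals norm_num

theorem chain_gaps :
    ∀ x ∈ chain.zip chain.tail, x.1 < x.2 ∧ (x.2 - x.1 ≤ 36 ∨ (x.2 - x.1) ^ 3 ≤ x.1 ^ 2) := by
  decide +kernel

theorem exists_prime_middle {n k : ℕ} (hk : 36 ≤ k) (hk2 : k < 2048) (h2k : 2 * k ≤ n)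
    (hnk : n ^ 2 ≤ k ^ 3) : ∃ p, p.Prime ∧ p ≤ n ∧ n - k < p := by
  have hn : n < 93559 := by
    refine lt_of_pow_lt_pow_left₀ 2 (Nat.zero_le _) ?_
    calc n ^ 2 ≤ k ^ 3 := hnk
      _ < 2048 ^ 3 := Nat.pow_lt_pow_left hk2 (by norm_num)
      _ ≤ 93559 ^ 2 := by norm_num
  obtain ⟨x, hx, hx1, hx2⟩ : ∃ x ∈ chain.zip chain.tail, x.1 ≤ n ∧ n < x.2 := by
    have key : ∀ (l : List ℕ) (a : ℕ), a ≤ n → n < (a :: l).getLast (List.cons_ne_nil _ _) →
        ∃ x ∈ (a :: l).zip l, x.1 ≤ n ∧ n < x.2 := by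
      intro l
      induction l with
      | nil => intro a ha h; simp at h; omega
      | cons b l ih =>
        intro a ha h
        by_cases hb : n < b
        · exact ⟨(a, b), by simp, ha, hb⟩
        · rw [List.getLast_cons (List.cons_ne_nil _ _)] at h
          obtain ⟨x, hx, hx'⟩ := ih b (by omega) h
          exact ⟨x, List.mem_cons_of_mem _ hx, hx'⟩
    exact key chain.tail 71 (by omega) (by
      have : ((71 : ℕ) :: chain.tail).getLast (List.cons_ne_nil _ _) = 93559 := by decide +kernel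
      omega)
  obtain ⟨hlt, hgap⟩ := chain_gaps x hx
  refine ⟨x.1, chain_prime _ (List.of_mem_zip hx).1, hx1, ?_⟩
  by_contra hcon
  have h1 : k < x.2 - x.1 := by omega
  rcases hgap with h | h
  · omega
  · have h2 := Nat.pow_lt_pow_left h1 (show 3 ≠ 0 by norm_num)
    have h3 := Nat.pow_le_pow_left hx1 2
    omega

theorem small_check : ∀ k < 36, ∀ n < (if k < 8 then 95 else k * k + 1), 1 ≤ k → 2 * k ≤ n →
    ¬ n.descFactorial k ∣ k.factorial ^ 12 := by
  decide +kernel

theorem descFactorial_dvd {n k : ℕ} (hkn : k ≤ n) (hn : n < 2048) (hs : Smooth n k) :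
    n.descFactorial k ∣ k.factorial ^ 12 := by
  rw [Nat.descFactorial_eq_factorial_mul_choose, show 12 = 1 + 11 from rfl, pow_add, pow_one]
  refine mul_dvd_mul_left _ ?_
  have hC : n.choose k ≠ 0 := (Nat.choose_pos hkn).ne'
  rw [← Nat.factorization_le_iff_dvd hC (pow_ne_zero _ k.factorial_ne_zero)]
  intro p
  by_cases hd : p.Prime ∧ p ∣ n.choose k
  · obtain ⟨hp, hd⟩ := hd
    rw [Nat.factorization_pow, Finsupp.smul_apply, smul_eq_mul]
    have h1 : 1 ≤ k.factorial.factorization p :=
      hp.factorization_pos_of_dvd k.factorial_ne_zero (hp.dvd_factorial.2 (hs p hp hd))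
    have h2 : (n.choose k).factorization p ≤ 11 := by
      refine Nat.factorization_choose_le_log.trans ?_
      have := Nat.pow_log_le_self p (show n ≠ 0 by
        rintro rfl; obtain rfl : k = 0 := Nat.le_zero.1 hkn; simp [hp.ne_one] at hd)
      by_contra hc
      have h3 : 2 ^ 12 ≤ p ^ Nat.log p n :=
        (Nat.pow_le_pow_left hp.two_le 12).trans (Nat.pow_le_pow_right hp.pos (by omega))
      omega
    calc (n.choose k).factorization p ≤ 11 * 1 := by omega
      _ ≤ _ := Nat.mul_le_mul_left 11 h1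
  · rw [show (n.choose k).factorization p = 0 from by
      rcases not_and_or.1 hd with h | h
      · exact Nat.factorization_eq_zero_of_not_prime _ h
      · exact Nat.factorization_eq_zero_of_not_dvd h]
    exact Nat.zero_le _

/-- **Sylvester–Schur**: a prime greater than `k` divides `n.choose k` for `2 k ≤ n`. -/
theorem exists_prime_lt_dvd_choose {n k : ℕ} (hk : 1 ≤ k) (h2k : 2 * k ≤ n) :
    ∃ p, p.Prime ∧ k < p ∧ p ∣ n.choose k := by
  by_contra hcon
  have hs : Smooth n k := fun p hp hd => not_lt.1 fun h => hcon ⟨p, hp, h, hd⟩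
  have hn0 : 0 < n := by omega
  have hkn : k ≤ n := by omega
  have hgap : ∀ p, p.Prime → p ≤ n → ¬ n - k < p := by
    intro p hp hpn hlt
    refine absurd (hs p hp ?_) (by omega)
    have := hp.dvd_choose_add (a := k) (b := n - k) (by omega) hlt (by omega)
    rwa [Nat.add_sub_cancel' hkn] at this
  have hpow := pow_le_self_pow hn0 hkn hs
  -- `n ≤ k²` from `2π(k) ≤ k`
  have hsq : 8 ≤ k → n ≤ k * k := by
    intro h8
    have hπ := two_mul_count_le k h8
    have h1 : n ^ k * n ^ k ≤ (k * k) ^ k * n ^ k := by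
      calc n ^ k * n ^ k ≤ (k ^ k * n ^ primeCounting k) * (k ^ k * n ^ primeCounting k) :=
            Nat.mul_le_mul hpow hpow
        _ = (k * k) ^ k * n ^ (2 * primeCounting k) := by rw [mul_pow, two_mul, pow_add]; ring
        _ ≤ _ := Nat.mul_le_mul_left _ (Nat.pow_le_pow_right hn0 hπ)
    exact (Nat.pow_le_pow_iff_left (by omega)).1 (Nat.le_of_mul_le_mul_right h1 (pow_pos hn0 k))
  rcases Nat.lt_or_ge k 36 with h36 | h36
  · rcases Nat.lt_or_ge k 8 with h8 | h8
    · have hn94 : n ≤ 94 := by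
        by_contra hc
        obtain ⟨e, he⟩ : ∃ e, k = primeCounting k + e ∧ 1 ≤ e ∧ k ^ k < 95 ^ e := by
          interval_cases k
          · exact ⟨1, by decide +kernel⟩
          · exact ⟨1, by decide +kernel⟩
          · exact ⟨1, by decide +kernel⟩
          · exact ⟨2, by decide +kernel⟩
          · exact ⟨2, by decide +kernel⟩
          · exact ⟨3, by decide +kernel⟩
          · exact ⟨3, by decide +kernel⟩
        obtain ⟨he1, -, he3⟩ := he
        nth_rw 1 [he1] at hpow
        rw [pow_add, mul_comm (k ^ k)] at hpow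
        have h := Nat.le_of_mul_le_mul_left hpow (pow_pos hn0 _)
        exact absurd ((Nat.pow_le_pow_left (show 95 ≤ n by omega) e).trans h) (by omega)
      exact small_check k h36 n (by rw [if_pos h8]; omega) hk h2k
        (descFactorial_dvd hkn (by omega) hs)
    · have := hsq h8
      have h35 : k * k ≤ 35 * 35 := Nat.mul_le_mul (by omega) (by omega)
      exact small_check k h36 n (by rw [if_neg (by omega)]; omega) hk h2k
        (descFactorial_dvd hkn (by omega) hs)
  · have hπ := three_mul_count_le k (by omega)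
    have hnk : n ^ 2 ≤ k ^ 3 := by
      have h1 : (n ^ 2) ^ k * n ^ k ≤ (k ^ 3) ^ k * n ^ k := by
        calc (n ^ 2) ^ k * n ^ k = (n ^ k) ^ 3 := by ring
          _ ≤ (k ^ k * n ^ primeCounting k) ^ 3 := Nat.pow_le_pow_left hpow 3
          _ = (k ^ 3) ^ k * n ^ (3 * primeCounting k) := by ring
          _ ≤ _ := Nat.mul_le_mul_left _ (Nat.pow_le_pow_right hn0 hπ)
      exact (Nat.pow_le_pow_iff_left (by omega)).1 (Nat.le_of_mul_le_mul_right h1 (pow_pos hn0 k))
    rcases Nat.lt_or_ge k 2048 with h | h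
    · obtain ⟨p, hp, hpn, hlt⟩ := exists_prime_middle h36 h h2k hnk
      exact hgap p hp hpn hlt
    · rcases Nat.lt_or_ge n (16 * k) with h' | h'
      · exact false_of_large_narrow h h2k h' hs
      · exact false_of_large_wide h h' hnk hs

end Cfsg.Agent.NT.SylvesterSchur
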