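import Mathlib

/-!
# Two primes in `(n, 2n]`

A sharpening of Bertrand's postulate: for `6 ≤ n` there are two primes in `(n, 2n]`, so for
`11 ≤ n` two primes in `(n / 2, n]`.
-/

set_option autoImplicit false

namespace Cfsg.Agent.NT

open Nat

theorem centralBinom_le_of_one_prime (n q : ℕ) (hn : 2 < n)
    (hone : ∀ p : ℕ, p.Prime → n < p → p ≤ 2 * n → p = q) :
    centralBinom n ≤ 2 * n * ((2 * n) ^ sqrt (2 * n) * 4 ^ (2 * n / 3)) := by
  have n_pos : 0 < n := by omega
  have n2_pos : 1 ≤ 2 * n := by omega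
  let f x := x ^ n.centralBinom.factorization x
  let S := {p ∈ Finset.range (2 * n / 3 + 1) | Nat.Prime p}
  let U := (insert q S).filter (· < 2 * n + 1)
  have hU : ∏ x ∈ U, f x = centralBinom n := by
    refine Eq.trans ?_ n.prod_pow_factorization_centralBinom
    refine Finset.prod_subset (fun x hx => ?_) (fun x hx hxU => ?_)
    · exact Finset.mem_range.2 (Finset.mem_filter.1 hx).2
    · change x ^ n.centralBinom.factorization x = 1
      by_cases hp : x.Prime
      · have hx' := Finset.mem_range.1 hx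
        simp only [U, S, Finset.mem_filter, Finset.mem_insert, Finset.mem_range, not_and, hp, and_true]
          at hxU
        have h1 : x ≠ q := fun h => hxU (Or.inl h) hx'
        have h2 : ¬ x < 2 * n / 3 + 1 := fun h => hxU (Or.inr h) hx'
        have hxn : x ≤ n := by
          by_contra h
          exact h1 (hone x hp (by omega) (by omega))
        rw [factorization_centralBinom_of_two_mul_self_lt_three_mul hn hxn (by omega), Nat.pow_zero]
      · rw [factorization_eq_zero_of_not_prime n.centralBinom hp, Nat.pow_zero]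
  have hf1 : ∀ x, f x ≤ 2 * n := fun x => pow_factorization_choose_le (mul_pos two_pos n_pos)
  have hS : ∏ x ∈ S, f x ≤ (2 * n) ^ sqrt (2 * n) * 4 ^ (2 * n / 3) := by
    rw [← Finset.prod_filter_mul_prod_filter_not S (· ≤ sqrt (2 * n))]
    apply mul_le_mul'
    · refine (Finset.prod_le_prod' fun p _ => hf1 p).trans ?_
      have : (Finset.Icc 1 (sqrt (2 * n))).card = sqrt (2 * n) := by rw [card_Icc, Nat.add_sub_cancel]
      rw [Finset.prod_const]
      refine pow_right_mono₀ n2_pos ((Finset.card_le_card fun x hx => ?_).trans this.le)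
      obtain ⟨h1, h2⟩ := Finset.mem_filter.1 hx
      exact Finset.mem_Icc.mpr ⟨(Finset.mem_filter.1 h1).2.one_lt.le, h2⟩
    · refine le_trans ?_ (primorial_le_four_pow (2 * n / 3))
      refine (Finset.prod_le_prod' fun p hp => (?_ : f p ≤ p)).trans ?_
      · obtain ⟨h1, h2⟩ := Finset.mem_filter.1 hp
        refine (pow_right_mono₀ (Finset.mem_filter.1 h1).2.one_lt.le ?_).trans (pow_one p).le
        exact Nat.factorization_choose_le_one (sqrt_lt'.mp <| not_le.1 h2)
      refine Finset.prod_le_prod_of_subset_of_one_le' (Finset.filter_subset _ _) ?_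
      exact fun p hp _ => (Finset.mem_filter.1 hp).2.one_lt.le
  have hpos : ∀ x, 1 ≤ f x := fun x => by
    rcases Nat.eq_zero_or_pos (n.centralBinom.factorization x) with h | h
    · simp [f, h]
    · exact Nat.one_le_pow _ _
        (Nat.prime_of_mem_primeFactors (Nat.support_factorization _ ▸ Finsupp.mem_support_iff.2 h.ne')).pos
  rw [← hU]
  calc ∏ x ∈ U, f x ≤ ∏ x ∈ insert q S, f x :=
        Finset.prod_le_prod_of_subset_of_one_le' (Finset.filter_subset _ _) fun x _ _ => hpos x
    _ ≤ f q * ∏ x ∈ S, f x := by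
        by_cases hq : q ∈ S
        · rw [Finset.insert_eq_of_mem hq]
          exact Nat.le_mul_of_pos_left _ (hpos q)
        · rw [Finset.prod_insert hq]
    _ ≤ _ := Nat.mul_le_mul (hf1 q) hS

theorem main_inequality {n : ℕ} (hn : 2048 ≤ n) :
    n * (2 * n * ((2 * n) ^ sqrt (2 * n) * 4 ^ (2 * n / 3))) ≤ 4 ^ n := by
  set s := sqrt (2 * n) with hs
  set j := Nat.log 2 (s + 1) with hj
  have h64 : 64 ≤ s := Nat.le_sqrt.2 (by omega)
  have hj6 : 6 ≤ j := Nat.le_log_of_pow_le (by norm_num) (by omega)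
  have h1 : s + 1 < 2 ^ (j + 1) := Nat.lt_pow_succ_log_self (by norm_num) _
  have h2 : 2 ^ j ≤ s + 1 := Nat.pow_log_le_self 2 (by omega)
  have h3 : 2 * n < (s + 1) * (s + 1) := Nat.lt_succ_sqrt _
  have h4 : 2 * n ≤ 2 ^ (2 * (j + 1)) := by
    rw [two_mul (j + 1), pow_add]
    exact h3.le.trans (Nat.mul_le_mul h1.le h1.le)
  have key : ∀ i, 6 ≤ i → 7 * (i + 1) + 1 ≤ 2 ^ i := by
    intro i hi
    induction i, hi using Nat.le_induction with
    | base => norm_num
    | succ i _ ih => rw [pow_succ]; omega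
  have h5 : 7 * (j + 1) ≤ s := by have := key j hj6; omega
  have hss : s * s ≤ 2 * n := Nat.sqrt_le _
  have h6 : 7 * (j + 1) * s ≤ s * s := Nat.mul_le_mul_right s h5
  have h7 : 2 * (j + 1) * (s + 2) + 2 * (2 * n / 3) ≤ 2 * n := by
    have ha : 6 * (s + 2) ≤ 7 * s := by omega
    have h8 : 6 * (j + 1) * (s + 2) ≤ s * s := by
      refine le_trans ?_ h6
      calc 6 * (j + 1) * (s + 2) = (j + 1) * (6 * (s + 2)) := by ring
        _ ≤ (j + 1) * (7 * s) := Nat.mul_le_mul_left _ ha
        _ = 7 * (j + 1) * s := by ring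
    have h9 : 3 * (2 * n / 3) ≤ 2 * n := Nat.mul_div_le _ _
    have : 3 * (2 * (j + 1) * (s + 2)) = 6 * (j + 1) * (s + 2) := by ring
    omega
  calc n * (2 * n * ((2 * n) ^ s * 4 ^ (2 * n / 3)))
      ≤ (2 * n) * (2 * n * ((2 * n) ^ s * 4 ^ (2 * n / 3))) := Nat.mul_le_mul_right _ (by omega)
    _ = (2 * n) ^ (s + 2) * 4 ^ (2 * n / 3) := by ring
    _ ≤ (2 ^ (2 * (j + 1))) ^ (s + 2) * 4 ^ (2 * n / 3) :=
        Nat.mul_le_mul_right _ (Nat.pow_le_pow_left h4 _)
    _ = 2 ^ (2 * (j + 1) * (s + 2) + 2 * (2 * n / 3)) := by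
        rw [← pow_mul, pow_add, pow_mul 2 2 (2 * n / 3)]; norm_num
    _ ≤ 2 ^ (2 * n) := Nat.pow_le_pow_right (by norm_num) h7
    _ = 4 ^ n := by rw [pow_mul]; norm_num

/-- Primes covering `[6, 2048)` with ratio at most `√2`. -/
def coverPrimes : List ℕ :=
  [5, 7, 11, 13, 17, 19, 23, 31, 43, 61, 83, 113, 157, 211, 293, 409, 577, 811, 1129, 1583, 2213,
    3001, 4099]

theorem coverPrimes_prime : ∀ p ∈ coverPrimes, p.Prime := by
  intro p hp
  simp only [coverPrimes, List.mem_cons, List.not_mem_nil, or_false] at hp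
  rcases hp with rfl | rfl | rfl | rfl | rfl | rfl | rfl | rfl | rfl | rfl | rfl | rfl | rfl | rfl |
    rfl | rfl | rfl | rfl | rfl | rfl | rfl | rfl | rfl <;> norm_num

theorem coverPrimes_cover : (List.range 2048).all (fun n => decide (n < 6) ||
    (coverPrimes.zip coverPrimes.tail).any fun x =>
      decide (n < x.1) && decide (x.1 < x.2) && decide (x.2 ≤ 2 * n)) = true := by
  decide +kernel

/-- For `6 ≤ n` there are two primes in `(n, 2n]`. -/
theorem exists_two_primes_lt_and_le_two_mul {n : ℕ} (hn : 6 ≤ n) :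
    ∃ p q : ℕ, p.Prime ∧ q.Prime ∧ n < p ∧ p < q ∧ q ≤ 2 * n := by
  rcases lt_or_ge n 2048 with hsmall | hbig
  · have h := List.all_eq_true.1 coverPrimes_cover n (List.mem_range.2 hsmall)
    simp only [Bool.or_eq_true, decide_eq_true_eq, List.any_eq_true, Bool.and_eq_true] at h
    rcases h with h | ⟨⟨p, q⟩, hpq, ⟨h1, h2⟩, h3⟩
    · omega
    · obtain ⟨hp, hq⟩ := List.of_mem_zip hpq
      exact ⟨p, q, coverPrimes_prime p hp, coverPrimes_prime q (List.mem_of_mem_tail hq), h1, h2, h3⟩
  · obtain ⟨p, hp, hnp, hp2⟩ := Nat.exists_prime_lt_and_le_two_mul n (by omega)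
    by_contra hcon
    have hone : ∀ r : ℕ, r.Prime → n < r → r ≤ 2 * n → r = p := by
      intro r hr h1 h2
      rcases lt_trichotomy r p with h | h | h
      · exact absurd ⟨r, p, hr, hp, h1, h, hp2⟩ hcon
      · exact h
      · exact absurd ⟨p, r, hp, hr, hnp, h, h2⟩ hcon
    have h1 := Nat.four_pow_lt_mul_centralBinom n (by omega)
    have h2 := Nat.mul_le_mul_left n (centralBinom_le_of_one_prime n p (by omega) hone)
    exact absurd ((h1.trans_le h2).trans_le (main_inequality hbig)) (lt_irrefl _)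

/-- For `11 ≤ n` there are two primes in `(n / 2, n]`. -/
theorem exists_two_primes_half {n : ℕ} (hn : 11 ≤ n) :
    ∃ p q : ℕ, p.Prime ∧ q.Prime ∧ n < 2 * p ∧ p < q ∧ q ≤ n := by
  rcases eq_or_lt_of_le hn with rfl | h
  · exact ⟨7, 11, by norm_num, by norm_num, by norm_num, by norm_num, le_rfl⟩
  · obtain ⟨p, q, hp, hq, h1, h2, h3⟩ := exists_two_primes_lt_and_le_two_mul (n := n / 2) (by omega)
    exact ⟨p, q, hp, hq, by omega, h2, by omega⟩

end Cfsg.Agent.NT
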